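import Mathlib
import Groth.Agent.ShYonLib.Basic

/-!
# Covering sieves for the canonical topology of a topos of sheaves
-/

set_option autoImplicit false
set_option backward.isDefEq.respectTransparency false
set_option backward.isDefEq.respectTransparency.types false
set_option linter.style.haveILetI false

universe u

open CategoryTheory Limits Opposite

namespace Groth.Agent.TopCanon

variable {C : Type u} [SmallCategory C] {J : GrothendieckTopology C}

/-- The sheafified representable. -/
noncomputable abbrev ε (U : C) : Sheaf J (Type u) := (presheafToSheaf J (Type u)).obj (yoneda.obj U)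

/-- A section as a morphism out of a sheafified representable. -/
noncomputable abbrev el (X : Sheaf J (Type u)) {U : C} (a : X.obj.obj (op U)) : ε U ⟶ X :=
  (ShYonLib.yEquiv U X).symm a

theorem el_comp {X Y : Sheaf J (Type u)} {U : C} (a : X.obj.obj (op U)) (f : X ⟶ Y) :
    el X a ≫ f = el Y (f.hom.app (op U) a) := by
  apply (ShYonLib.yEquiv U Y).injective
  rw [ShYonLib.yEquiv_comp, Equiv.apply_symm_apply, Equiv.apply_symm_apply]

theorem el_map {X : Sheaf J (Type u)} {U V : C} (h : V ⟶ U) (a : X.obj.obj (op U)) :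
    (presheafToSheaf J (Type u)).map (yoneda.map h) ≫ el X a = el X (X.obj.map h.op a) := by
  apply (ShYonLib.yEquiv V X).injective
  rw [← ShYonLib.yEquiv_nat, Equiv.apply_symm_apply, Equiv.apply_symm_apply]

/-- The tautological section of a sheafified representable. -/
noncomputable abbrev unitEl (U : C) : (ε (J := J) U).obj.obj (op U) := ShYonLib.yEquiv U _ (𝟙 _)

theorem yEquiv_eq {X : Sheaf J (Type u)} {U : C} (α : ε U ⟶ X) :
    ShYonLib.yEquiv U X α = α.hom.app (op U) (unitEl U) := by
  rw [← ShYonLib.yEquiv_comp, Category.id_comp]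

variable {X : Sheaf J (Type u)}

/-- The sections lifting through a sieve. -/
def image (S : Sieve X) : Subfunctor X.obj where
  obj U := {a | ∃ (Y : Sheaf J (Type u)) (f : Y ⟶ X) (_ : S f) (b : Y.obj.obj U), f.hom.app U b = a}
  map := by
    rintro U V i a ⟨Y, f, hf, b, rfl⟩
    exact ⟨Y, f, hf, Y.obj.map i b, NatTrans.naturality_apply f.hom i b⟩

/-- The sieve is locally surjective on sections. -/
def LocSurj (S : Sieve X) : Prop :=
  ∀ (U : C) (a : X.obj.obj (op U)), (image S).sieveOfSection a ∈ J U

theorem mem_image_iff (S : Sieve X) {U : C} (a : X.obj.obj (op U)) :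
    a ∈ (image S).obj (op U) ↔ S (el X a) := by
  constructor
  · rintro ⟨Y, f, hf, b, rfl⟩
    rw [← el_comp]
    exact S.downward_closed hf _
  · intro h
    exact ⟨_, el X a, h, unitEl U, by rw [← yEquiv_eq, Equiv.apply_symm_apply]⟩

theorem locSurj_top : LocSurj (⊤ : Sieve X) := fun U a =>
  J.superset_covering (fun V i _ => (mem_image_iff ⊤ _).2 trivial) (J.top_mem U)

theorem locSurj_pullback {S : Sieve X} (hS : LocSurj S) {Y : Sheaf J (Type u)} (f : Y ⟶ X) :
    LocSurj (S.pullback f) := fun U a => by
  refine J.superset_covering (fun V i (hi : _ ∈ _) => ?_) (hS U (f.hom.app (op U) a))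
  change _ ∈ (image (S.pullback f)).obj (op V)
  rw [mem_image_iff] at hi ⊢
  rw [Sieve.pullback_apply, el_comp, NatTrans.naturality_apply]
  exact hi

/-- Jointly epimorphic sieves are locally surjective. -/
theorem locSurj_of_epi {S : Sieve X}
    (h : ∀ (W : Sheaf J (Type u)) (η η' : X ⟶ W),
      (∀ ⦃Y : Sheaf J (Type u)⦄ (f : Y ⟶ X), S f → f ≫ η = f ≫ η') → η = η') : LocSurj S := by
  have hX : Presieve.IsSheaf J X.obj := (isSheaf_iff_isSheaf_of_type _ _).1 X.property
  let M : Sheaf J (Type u) := ⟨((image S).sheafify J).toFunctor,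
    (isSheaf_iff_isSheaf_of_type _ _).2 ((image S).sheafify_isSheaf hX)⟩
  let ι : M ⟶ X := ⟨((image S).sheafify J).ι⟩
  haveI : Mono ι.hom := inferInstanceAs (Mono ((image S).sheafify J).ι)
  haveI : Mono ι := (sheafToPresheaf J (Type u)).mono_of_mono_map (f := ι) ‹_›
  haveI : Epi ι := ⟨fun {W} η η' he => h W η η' fun Y f hf => by
    have hle : Subfunctor.range f.hom ≤ (image S).sheafify J := by
      rintro U _ ⟨b, rfl⟩
      exact (image S).le_sheafify J U ⟨Y, f, hf, b, rfl⟩
    let t : Y ⟶ M := ⟨Subfunctor.lift f.hom hle⟩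
    have ht : t ≫ ι = f := Sheaf.hom_ext (Subfunctor.lift_ι f.hom hle)
    rw [← ht, Category.assoc, he, Category.assoc]⟩
  haveI : IsIso ι := isIso_of_mono_of_epi ι
  intro U a
  let b := (inv ι).hom.app (op U) a
  have hb : ι.hom.app (op U) b = a := by
    change ((inv ι ≫ ι).hom.app (op U)) a = a
    rw [IsIso.inv_hom_id]
    rfl
  rw [← hb]
  exact b.2

/-- Descent of an assignment on lifted sections. -/
theorem existsUnique_desc {S : Sieve X} (hS : LocSurj S) (W : Sheaf J (Type u))
    (val : ∀ (U : C) (a : X.obj.obj (op U)), S (el X a) → W.obj.obj (op U))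
    (hval : ∀ (U V : C) (i : V ⟶ U) (a : X.obj.obj (op U)) (ha : S (el X a))
      (hb : S (el X (X.obj.map i.op a))),
      val V (X.obj.map i.op a) hb = W.obj.map i.op (val U a ha)) :
    ∃! η : X ⟶ W, ∀ (U : C) (a : X.obj.obj (op U)) (ha : S (el X a)), η.hom.app (op U) a = val U a ha := by
  have hW : Presieve.IsSheaf J W.obj := (isSheaf_iff_isSheaf_of_type _ _).1 W.property
  have key : ∀ (U : C) (a : X.obj.obj (op U)), ∃! w : W.obj.obj (op U),
      ∀ (V : C) (i : V ⟶ U) (hi : S (el X (X.obj.map i.op a))),
        W.obj.map i.op w = val V (X.obj.map i.op a) hi := by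
    intro U a
    let x : Presieve.FamilyOfElements W.obj ((image S).sieveOfSection a).arrows :=
      fun V i hi => val V (X.obj.map i.op a) ((mem_image_iff S _).1 hi)
    have hx : x.Compatible := by
      intro V₁ V₂ T g₁ g₂ i₁ i₂ h₁ h₂ hg
      have e1 : ∀ {V : C} (i : V ⟶ U) (g : T ⟶ V),
          X.obj.map g.op (X.obj.map i.op a) = X.obj.map (g ≫ i).op a := fun i g => by
        rw [op_comp, Functor.map_comp]; rfl
      have h3 : S (el X (X.obj.map g₁.op (X.obj.map i₁.op a))) := by
        rw [← el_map]; exact S.downward_closed ((mem_image_iff S _).1 h₁) _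
      have h4 : S (el X (X.obj.map g₂.op (X.obj.map i₂.op a))) := by
        rw [← el_map]; exact S.downward_closed ((mem_image_iff S _).1 h₂) _
      change W.obj.map g₁.op (val V₁ _ _) = W.obj.map g₂.op (val V₂ _ _)
      rw [← hval _ _ g₁ _ _ h3, ← hval _ _ g₂ _ _ h4]
      congr 1
      rw [e1, e1, hg]
    obtain ⟨w, hw, hwu⟩ := hW _ (hS U a) x hx
    exact ⟨w, fun V i hi => hw i ((mem_image_iff S _).2 hi),
      fun w' hw' => hwu w' fun V i hi => hw' V i ((mem_image_iff S _).1 hi)⟩
  choose w hw hwu using key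
  have hw0 : ∀ (U : C) (a : X.obj.obj (op U)) (ha : S (el X a)), w U a = val U a ha := by
    intro U a ha
    refine (hwu U a (val U a ha) fun V i hi => (hval U V i a ha hi).symm).symm
  have nat : ∀ (U V : C) (i : V ⟶ U) (a : X.obj.obj (op U)),
      W.obj.map i.op (w U a) = w V (X.obj.map i.op a) := by
    intro U V i a
    refine hwu V _ _ fun T j hj => ?_
    have e : X.obj.map j.op (X.obj.map i.op a) = X.obj.map (j ≫ i).op a := by
      rw [op_comp, Functor.map_comp]; rfl
    have e' : W.obj.map j.op (W.obj.map i.op (w U a)) = W.obj.map (j ≫ i).op (w U a) := by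
      rw [op_comp, Functor.map_comp]; rfl
    rw [e', hw U a T (j ≫ i) (e ▸ hj)]
    congr 1
    exact e.symm
  refine ⟨⟨{ app := fun U => TypeCat.ofHom fun a => w U.unop a
             naturality := fun U V i => by
               ext a
               exact (nat U.unop V.unop i.unop a).symm }⟩, hw0, fun η hη => ?_⟩
  ext U a
  refine hwu U.unop a _ fun V i hi => ?_
  rw [← hη V _ hi]
  exact (NatTrans.naturality_apply η.hom i.op a).symm

/-- Locally surjective sieves belong to the canonical topology. -/
theorem mem_canonical {S : Sieve X} (hS : LocSurj S) :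
    S ∈ Sheaf.canonicalTopology (Sheaf J (Type u)) X := by
  apply Sheaf.mem_finestTopology_of_forall_isSheafFor
  rintro _ ⟨W, rfl⟩ Y f
  intro x hx
  have hS' := locSurj_pullback hS f
  let val : ∀ (U : C) (a : Y.obj.obj (op U)), (S.pullback f) (el Y a) → W.obj.obj (op U) :=
    fun U a ha => ShYonLib.yEquiv U W (x (el Y a) ha)
  obtain ⟨η, hη, hηu⟩ := existsUnique_desc hS' W val (by
    intro U V i a ha hb
    simp only [val]
    rw [ShYonLib.yEquiv_nat]
    congr 1
    have := hx (𝟙 _) ((presheafToSheaf J (Type u)).map (yoneda.map i)) hb ha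
      (by rw [Category.id_comp, el_map])
    exact (Category.id_comp _).symm.trans this)
  refine ⟨η, fun Z g hg => ?_, fun η' hη' => hηu η' fun U a ha => ?_⟩
  · change g ≫ η = x g hg
    ext U b
    change η.hom.app U (g.hom.app U b) = _
    have hb : (S.pullback f) (el Y (g.hom.app U b)) := by
      rw [← el_comp]
      exact Sieve.downward_closed _ hg _
    rw [hη U.unop _ hb]
    have h1 : x (el Y (g.hom.app U b)) hb = el Z (U := U.unop) b ≫ x g hg :=
      (Category.id_comp _).symm.trans (hx (𝟙 _) (el Z (U := U.unop) b) hb hg (by rw [Category.id_comp, el_comp]))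
    simp only [val]
    rw [h1, ShYonLib.yEquiv_comp, Equiv.apply_symm_apply]
    rfl
  · simp only [val]
    rw [← hη' (el Y a) ha]
    change _ = ShYonLib.yEquiv U W (el Y a ≫ η')
    rw [ShYonLib.yEquiv_comp, Equiv.apply_symm_apply]

/-- Canonical covers are locally surjective. -/
theorem locSurj_of_mem {S : Sieve X} (hS : S ∈ Sheaf.canonicalTopology (Sheaf J (Type u)) X) :
    LocSurj S :=
  locSurj_of_epi fun W η η' he =>
    ((Sheaf.isSheaf_yoneda_obj W) S hS).isSeparatedFor.ext fun Y f hf => he f hf

end Groth.Agent.TopCanon
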