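import Groth.Agent.TopCanon.LocSurj

/-!
# Canonical sheaves on a topos of sheaves turn colimits into limits
-/

set_option autoImplicit false
set_option backward.isDefEq.respectTransparency false
set_option backward.isDefEq.respectTransparency.types false
set_option linter.style.haveILetI false

universe w v u

open CategoryTheory Limits Opposite

namespace Groth.Agent.TopCanon

variable {C : Type u} [SmallCategory C] {J : GrothendieckTopology C}

/-- The elements lifting through a sieve. -/
def P {X : Sheaf J (Type u)} (S : Sieve X) : ObjectProperty (X.obj.Elementsᵒᵖ) :=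
  fun e => S (el X (U := e.unop.fst.unop) e.unop.snd)

/-- The diagram of sheafified representables over the elements lifting through a sieve. -/
noncomputable def diag {X : Sheaf J (Type u)} (S : Sieve X) : (P S).FullSubcategory ⥤ Sheaf J (Type u) :=
  (P S).ι ⋙ (CategoryOfElements.π X.obj).leftOp ⋙ yoneda ⋙ presheafToSheaf J (Type u)

/-- The tautological cocone. -/
noncomputable def cocone {X : Sheaf J (Type u)} (S : Sieve X) : Cocone (diag S) where
  pt := X
  ι :=
    { app := fun e => el X (U := e.obj.unop.fst.unop) e.obj.unop.snd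
      naturality := fun e e' h => by
        refine ((el_map (X := X) h.hom.unop.val.unop e'.obj.unop.snd).trans ?_).trans (Category.comp_id _).symm
        congr 1
        exact h.hom.unop.prop }

/-- Morphisms out of a sheaf are determined on a locally surjective sieve. -/
noncomputable def isColimitCocone {X : Sheaf J (Type u)} {S : Sieve X} (hS : LocSurj S) :
    IsColimit (cocone S) := by
  have key : ∀ s : Cocone (diag S), ∃! η : X ⟶ s.pt, ∀ e, (cocone S).ι.app e ≫ η = s.ι.app e := by
    intro s
    let val : ∀ (U : C) (a : X.obj.obj (op U)), S (el X a) → s.pt.obj.obj (op U) := fun U a ha =>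
      ShYonLib.yEquiv U s.pt (s.ι.app ⟨op ⟨op U, a⟩, ha⟩)
    obtain ⟨η, hη, hu⟩ := existsUnique_desc hS s.pt val (by
      intro U V i a ha hb
      simp only [val]
      rw [ShYonLib.yEquiv_nat]
      congr 1
      let h : (⟨op ⟨op V, X.obj.map i.op a⟩, hb⟩ : (P S).FullSubcategory) ⟶ ⟨op ⟨op U, a⟩, ha⟩ :=
        ObjectProperty.homMk (Quiver.Hom.op (CategoryOfElements.homMk (F := X.obj) ⟨op U, a⟩ ⟨op V, X.obj.map i.op a⟩ i.op rfl))
      exact (s.w h).symm)
    refine ⟨η, fun e => ?_, fun η' hη' => hu η' fun U a ha => ?_⟩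
    · apply (ShYonLib.yEquiv _ s.pt).injective
      change ShYonLib.yEquiv _ s.pt (el X (U := e.obj.unop.fst.unop) e.obj.unop.snd ≫ η) = _
      rw [ShYonLib.yEquiv_comp, Equiv.apply_symm_apply]
      exact hη _ _ e.property
    · simp only [val]
      rw [← hη' ⟨op ⟨op U, a⟩, ha⟩]
      change _ = ShYonLib.yEquiv U s.pt (el X a ≫ η')
      rw [ShYonLib.yEquiv_comp, Equiv.apply_symm_apply]
  exact { desc := fun s => (key s).choose
          fac := fun s => (key s).choose_spec.1
          uniq := fun s m hm => (key s).choose_spec.2 m hm }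

variable (G : (Sheaf J (Type u))ᵒᵖ ⥤ Type w)

theorem map_map {X Y Z : Sheaf J (Type u)} (g : Z ⟶ Y) (f : Y ⟶ X) (x : G.obj (op X)) :
    G.map g.op (G.map f.op x) = G.map (g ≫ f).op x := by
  rw [op_comp, G.map_comp]; rfl

variable {G}

/-- Functors turning colimits into limits are canonical sheaves. -/
theorem isSheaf_of_preservesLimits [PreservesLimitsOfSize.{u, u} G] :
    Presieve.IsSheaf (Sheaf.canonicalTopology (Sheaf J (Type u))) G := by
  intro X S hS x hx
  have hL := locSurj_of_mem hS
  have h1 := fun (Y : Sheaf J (Type u)) (T : Sieve Y) (hT : LocSurj T) =>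
    (Types.isLimit_iff _).1 ⟨isLimitOfPreserves G (isColimitCocone hT).op⟩
  let s : ∀ e : ((P S).FullSubcategory)ᵒᵖ, G.obj (op ((diag S).obj e.unop)) := fun e =>
    x _ e.unop.property
  obtain ⟨t, ht, htu⟩ := h1 X S hL s (by
    intro e e' h
    have := hx ((diag S).map h.unop) (𝟙 _) e.unop.property e'.unop.property
      (((cocone S).w h.unop).trans (Category.id_comp _).symm)
    rw [op_id, G.map_id] at this
    exact this)
  refine ⟨t, fun Y f hf => ?_, fun t' ht' => htu t' fun e => ht' _ e.unop.property⟩
  obtain ⟨r, hr, hru⟩ := h1 Y ⊤ locSurj_top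
    (fun e => G.map (el Y (U := e.unop.obj.unop.fst.unop) e.unop.obj.unop.snd).op (x f hf)) (by
      intro e e' h
      change G.map ((diag ⊤).map h.unop).op (G.map _ _) = G.map _ _
      rw [map_map]
      exact congrArg (fun α => G.map (Quiver.Hom.op α) (x f hf)) ((cocone ⊤).w h.unop))
  refine (hru _ fun e => ?_).trans (hru _ fun e => rfl).symm
  change G.map (el Y _).op (G.map f.op t) = _
  rw [map_map]
  have hb : S (el X (U := e.unop.obj.unop.fst.unop) (f.hom.app _ e.unop.obj.unop.snd)) := by
    rw [← el_comp]; exact S.downward_closed hf _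
  have h2 := ht (op ⟨op ⟨_, f.hom.app _ e.unop.obj.unop.snd⟩, hb⟩)
  change G.map (el X _).op t = _ at h2
  rw [el_comp]
  refine h2.trans ?_
  have h3 := hx (𝟙 _) (el Y (U := e.unop.obj.unop.fst.unop) e.unop.obj.unop.snd) hb hf
    ((Category.id_comp _).trans (el_comp _ _).symm)
  rw [op_id, G.map_id] at h3
  exact h3

variable {K : Type u} [SmallCategory K] {D : K ⥤ Sheaf J (Type u)}

/-- Two lifts to the diagram of the same map to the colimit give the same value. -/
theorem zigzag (hG : Presieve.IsSheaf (Sheaf.canonicalTopology (Sheaf J (Type u))) G)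
    {c : Cocone D} (hc : IsColimit c) (s : ∀ k, G.obj (op (D.obj k)))
    (hs : ∀ (k k' : K) (h : k ⟶ k'), G.map (D.map h).op (s k') = s k)
    {Z : Sheaf J (Type u)} {i j : K} (g : Z ⟶ D.obj i) (g' : Z ⟶ D.obj j)
    (hg : g ≫ c.ι.app i = g' ≫ c.ι.app j) : G.map g.op (s i) = G.map g'.op (s j) := by
  let T : Sieve Z :=
    { arrows := fun Y h => G.map (h ≫ g).op (s i) = G.map (h ≫ g').op (s j)
      downward_closed := fun {Y Y'} {h} hh r => by
        rw [Category.assoc, Category.assoc, ← map_map, hh, map_map] }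
  let E := colimit.cocone (D ⋙ sheafToPresheaf J (Type u))
  let hE := colimit.isColimit (D ⋙ sheafToPresheaf J (Type u))
  let e := (Sheaf.isColimitSheafifyCocone E hE).coconePointUniqueUpToIso hc
  have hgE : (g ≫ (Sheaf.sheafifyCocone E).ι.app i) = g' ≫ (Sheaf.sheafifyCocone E).ι.app j := by
    rw [← cancel_mono e.hom, Category.assoc, Category.assoc,
      IsColimit.comp_coconePointUniqueUpToIso_hom, IsColimit.comp_coconePointUniqueUpToIso_hom, hg]
  have hT : LocSurj T := by
    intro U z
    have hpq : (toSheafify J E.pt).app (op U) ((E.ι.app i).app (op U) (g.hom.app (op U) z)) =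
        (toSheafify J E.pt).app (op U) ((E.ι.app j).app (op U) (g'.hom.app (op U) z)) := by
      have := congrArg (fun α => α.hom.app (op U) z) hgE
      simp only [ObjectProperty.FullSubcategory.comp_hom, NatTrans.comp_app,
        Sheaf.sheafifyCocone_ι_app_val] at this
      exact this
    refine J.superset_covering ?_ (Presheaf.equalizerSieve_mem J (toSheafify J E.pt) _ _ hpq)
    intro V h hh
    change _ ∈ (image T).obj (op V)
    rw [mem_image_iff]
    change G.map _ _ = G.map _ _
    rw [el_comp, el_comp]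
    have hV : ((Functor.coconeTypesEquiv _).symm (((evaluation Cᵒᵖ (Type u)).obj (op V)).mapCocone E)).IsColimit :=
      (Functor.CoconeTypes.isColimit_iff _).2
        ⟨(isColimitOfPreserves ((evaluation Cᵒᵖ (Type u)).obj (op V)) hE).ofIsoColimit
          (Cocone.ext (Iso.refl _) (fun _ => rfl))⟩
    let cT : ((D ⋙ sheafToPresheaf J (Type u)) ⋙ (evaluation Cᵒᵖ (Type u)).obj (op V)).CoconeTypes :=
      { pt := G.obj (op (ε V))
        ι := fun k b => G.map (el (D.obj k) (U := V) b).op (s k)
        ι_naturality := fun {k k'} f => funext fun b => by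
          change G.map (el (D.obj k') (U := V) ((D.map f).hom.app (op V) b)).op (s k') = _
          rw [← el_comp, ← map_map, hs k k' f] }
    have hh' : (E.ι.app i).app (op V) (g.hom.app (op V) (Z.obj.map h.op z)) =
        (E.ι.app j).app (op V) (g'.hom.app (op V) (Z.obj.map h.op z)) := by
      rw [NatTrans.naturality_apply g.hom, NatTrans.naturality_apply g'.hom]
      exact ((NatTrans.naturality_apply (E.ι.app i) h.op _).trans hh).trans
        (NatTrans.naturality_apply (E.ι.app j) h.op _).symm
    have h4 := congrArg (hV.desc cT) hh'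
    exact ((hV.fac_apply cT i _).symm.trans h4).trans (hV.fac_apply cT j _)
  refine (hG T (mem_canonical hT)).isSeparatedFor.ext fun Y h hh => ?_
  rw [map_map, map_map]
  exact hh

/-- Canonical sheaves turn colimits into limits. -/
theorem isLimit_of_isSheaf (hG : Presieve.IsSheaf (Sheaf.canonicalTopology (Sheaf J (Type u))) G)
    {c : Cocone D} (hc : IsColimit c) : Nonempty (IsLimit (G.mapCone c.op)) := by
  rw [Types.isLimit_iff]
  intro s hs
  let S := Sieve.generate (Presieve.ofArrows D.obj c.ι.app)
  have hS : LocSurj S := locSurj_of_epi fun W η η' h => hc.hom_ext fun k =>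
    h _ (Sieve.le_generate _ _ _ (Presieve.ofArrows.mk k))
  have h1 := hG S (mem_canonical hS)
  rw [← Presieve.isSheafFor_iff_generate, Presieve.isSheafFor_arrows_iff] at h1
  obtain ⟨t, ht, htu⟩ := h1 (fun k => s (op k)) (fun i j Z g g' hg =>
    zigzag hG hc (fun k => s (op k)) (fun k k' h => hs h.op) g g' hg)
  exact ⟨t, fun k => ht k.unop, fun t' ht' => htu t' fun k => ht' (op k)⟩

theorem preservesLimits_of_isSheaf (hG : Presieve.IsSheaf (Sheaf.canonicalTopology (Sheaf J (Type u))) G) :
    PreservesLimitsOfSize.{u, u} G := by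
  refine ⟨fun {I} _ => ⟨fun {F} => ⟨fun {c} hc => ?_⟩⟩⟩
  let c' : Cocone F.leftOp := coconeLeftOpOfCone c
  obtain ⟨h⟩ := isLimit_of_isSheaf hG (c := c') (isColimitCoconeLeftOpOfCone F hc)
  refine ⟨(IsLimit.whiskerEquivalenceEquiv (opOpEquivalence I).symm) h |>.ofIsoLimit ?_⟩
  exact Cone.ext (Iso.refl _) (fun k => rfl)

variable {E' : Type v} [Category.{w} E']

theorem isSheaf_iff_preservesLimits (F : (Sheaf J (Type u))ᵒᵖ ⥤ E') :
    Presheaf.IsSheaf (Sheaf.canonicalTopology (Sheaf J (Type u))) F ↔ PreservesLimitsOfSize.{u, u} F := by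
  constructor
  · intro h
    haveI := fun X : E'ᵒᵖ => preservesLimits_of_isSheaf (G := F ⋙ coyoneda.obj X) (h X.unop)
    exact ⟨fun {I} _ => ⟨fun {K} => ⟨fun {c} hc => ⟨coyonedaJointlyReflectsLimits _ _ fun X =>
      isLimitOfPreserves (F ⋙ coyoneda.obj X) hc⟩⟩⟩⟩
  · intro h X
    exact isSheaf_of_preservesLimits (G := F ⋙ coyoneda.obj (op X))

end Groth.Agent.TopCanon
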