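import Groth.Agent.TopCanon.Sheaf
import Groth.Prelude.Def_SGA4a

/-!
# Cocontinuous functors between topoi
-/

set_option autoImplicit false
set_option backward.isDefEq.respectTransparency false
set_option backward.isDefEq.respectTransparency.types false
set_option linter.style.haveILetI false

universe w u

open CategoryTheory Limits Opposite

namespace Groth.Agent.TopCanon

variable {C D : Type u} [SmallCategory C] [SmallCategory D] {J : GrothendieckTopology C}
  {K : GrothendieckTopology D} {f : Sheaf J (Type u) ⥤ Sheaf K (Type u)}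

theorem preservesColimits_of_isSheaf
    (h : ∀ Z : Sheaf K (Type u),
      Presieve.IsSheaf (Sheaf.canonicalTopology (Sheaf J (Type u))) (f.op ⋙ yoneda.obj Z)) :
    PreservesColimitsOfSize.{u, u} f := by
  refine ⟨fun {I} _ => ⟨fun {F} => ⟨fun {c} hc => ?_⟩⟩⟩
  refine ⟨(Limits.Cocone.isColimitYonedaEquiv _).symm fun Z => ?_⟩
  exact ((isLimit_of_isSheaf (h Z) hc).some).ofIsoLimit (Cone.ext (Iso.refl _) (fun _ => rfl))

theorem isSheaf_comp_of_preservesColimits [PreservesColimitsOfSize.{u, u} f]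
    (G : (Sheaf K (Type u))ᵒᵖ ⥤ Type w)
    (hG : Presieve.IsSheaf (Sheaf.canonicalTopology (Sheaf K (Type u))) G) :
    Presieve.IsSheaf (Sheaf.canonicalTopology (Sheaf J (Type u))) (f.op ⋙ G) := by
  haveI := preservesLimits_of_isSheaf hG
  haveI : PreservesLimitsOfSize.{u, u} f.op :=
    ⟨fun {I} _ => ⟨fun {F} => preservesLimit_op F f⟩⟩
  exact isSheaf_of_preservesLimits

theorem preservesColimits_iff_isContinuous :
    PreservesColimitsOfSize.{u, u} f ↔
      f.IsContinuous.{u} (Sheaf.canonicalTopology (Sheaf J (Type u)))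
        (Sheaf.canonicalTopology (Sheaf K (Type u))) := by
  constructor
  · intro h
    exact ⟨fun G => isSheaf_comp_of_preservesColimits G.obj
      ((isSheaf_iff_isSheaf_of_type _ _).1 G.property)⟩
  · intro h
    exact preservesColimits_of_isSheaf fun Z =>
      Functor.op_comp_isSheaf_of_isSheaf_type f _ (Sheaf.isSheaf_yoneda_obj Z)

/-- Left exact functors preserving epimorphic families send canonical covers to covers. -/
theorem isSheaf_comp_of_lex [PreservesFiniteLimits f]
    (hf : SGA4.PreservesEpiFamilies.{u + 1, u + 1, u} f) (Z : Sheaf K (Type u)) :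
    Presieve.IsSheaf (Sheaf.canonicalTopology (Sheaf J (Type u))) (f.op ⋙ yoneda.obj Z) := by
  intro X S hS x hx
  have hepi : ∀ (Y : Sheaf J (Type u)) (T : Sieve Y), LocSurj T → ∀ (W : Sheaf K (Type u))
      (a b : f.obj Y ⟶ W), (∀ e, f.map ((cocone T).ι.app e) ≫ a = f.map ((cocone T).ι.app e) ≫ b) →
        a = b := fun Y T hT =>
    hf _ _ _ (fun e => (cocone T).ι.app e) (fun W a b hab => (isColimitCocone hT).hom_ext hab)
  have hL := locSurj_of_mem hS
  let T := Sieve.generate (Presieve.ofArrows (fun e => f.obj ((diag S).obj e))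
    (fun e => f.map ((cocone S).ι.app e)))
  have hT : LocSurj T := locSurj_of_epi fun W η η' h =>
    hepi X S hL W η η' fun e => h _ (Sieve.le_generate _ _ _ (Presieve.ofArrows.mk e))
  have h1 := Sheaf.isSheaf_yoneda_obj Z T (mem_canonical hT)
  rw [← Presieve.isSheafFor_iff_generate, Presieve.isSheafFor_arrows_iff] at h1
  obtain ⟨t, ht, htu⟩ := h1 (fun e => x _ e.property) (by
    intro i j W g g' hg
    change g ≫ x _ i.property = g' ≫ x _ j.property
    have hp := (IsPullback.of_hasPullback ((cocone S).ι.app i) ((cocone S).ι.app j)).map f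
    rw [← hp.lift_fst g g' hg]
    conv_rhs => rw [← hp.lift_snd g g' hg]
    rw [Category.assoc, Category.assoc]
    exact congrArg _ (hx (pullback.fst _ _) (pullback.snd _ _) i.property j.property pullback.condition))
  refine ⟨t, fun Y g hg => ?_, fun t' ht' => htu t' fun e => ht' _ e.property⟩
  refine hepi Y ⊤ locSurj_top _ _ _ fun e => ?_
  have hb : S (el X (U := e.obj.unop.fst.unop) (g.hom.app _ e.obj.unop.snd)) := by
    rw [← el_comp]; exact S.downward_closed hg _
  have h2 : f.map (el X (U := e.obj.unop.fst.unop) (g.hom.app _ e.obj.unop.snd)) ≫ t = x _ hb :=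
    ht ⟨op ⟨_, g.hom.app _ e.obj.unop.snd⟩, hb⟩
  change f.map (el Y e.obj.unop.snd) ≫ f.map g ≫ t = f.map (el Y e.obj.unop.snd) ≫ x g hg
  rw [← f.map_comp_assoc]
  have e1 : el Y (U := e.obj.unop.fst.unop) e.obj.unop.snd ≫ g =
      el X (g.hom.app _ e.obj.unop.snd) := el_comp _ g
  rw [e1]
  refine h2.trans ?_
  have h3 := hx (el Y (U := e.obj.unop.fst.unop) e.obj.unop.snd) (𝟙 _) hg hb
    (e1.trans (Category.id_comp _).symm)
  exact (h3.trans (by
    change f.map (𝟙 _) ≫ x _ hb = _
    rw [f.map_id, Category.id_comp])).symm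

/-- A cocontinuous functor between topoi is a left adjoint. -/
theorem isLeftAdjoint_of_preservesColimits [PreservesColimitsOfSize.{u, u} f] : f.IsLeftAdjoint := by
  let a := presheafToSheaf J (Type u)
  let i := sheafToPresheaf J (Type u)
  let adj := sheafificationAdjunction J (Type u)
  haveI : (a ⋙ f).IsLeftAdjoint := Presheaf.isLeftAdjoint_of_preservesColimits.{u} (a ⋙ f)
  let R := (a ⋙ f).rightAdjoint
  let A : a ⋙ f ⊣ R := Adjunction.ofIsLeftAdjoint (a ⋙ f)
  haveI hunit : ∀ P : Cᵒᵖ ⥤ Type u, IsIso (a.map (adj.unit.app P)) := fun P => by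
    haveI : Reflective i := ⟨a, adj⟩
    haveI : IsIso (adj.counit.app (a.obj P)) := inferInstance
    refine ⟨adj.counit.app (a.obj P), adj.left_triangle_components P, ?_⟩
    rw [← cancel_mono (adj.counit.app (a.obj P)), Category.assoc, adj.left_triangle_components P]
    exact (Category.comp_id _).trans (Category.id_comp _).symm
  have hR : ∀ Z, Presheaf.IsSheaf J (R.obj Z) := fun Z => by
    let g := adj.unit.app (R.obj Z)
    haveI : IsIso (f.map (a.map g)) := inferInstance
    let r : i.obj (a.obj (R.obj Z)) ⟶ R.obj Z :=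
      A.homEquiv _ _ (inv (f.map (a.map g)) ≫ (A.homEquiv _ _).symm (𝟙 _))
    have h1 : g ≫ r = 𝟙 _ := by
      change g ≫ A.homEquiv _ _ _ = _
      rw [← A.homEquiv_naturality_left]
      change A.homEquiv _ _ (f.map (a.map g) ≫ _) = _
      rw [IsIso.hom_inv_id_assoc, Equiv.apply_symm_apply]
    have h2 : r ≫ g = 𝟙 _ := by
      obtain ⟨k, hk⟩ : ∃ k : a.obj (R.obj Z) ⟶ a.obj (R.obj Z), i.map k = r ≫ g :=
        ⟨i.preimage (r ≫ g), i.map_preimage _⟩
      suffices hk1 : k = 𝟙 _ by
        rw [← hk, hk1]; rfl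
      apply (adj.homEquiv _ _).injective
      rw [adj.homEquiv_unit, adj.homEquiv_unit, hk, i.map_id]
      change g ≫ r ≫ g = g ≫ 𝟙 _
      rw [reassoc_of% h1, Category.comp_id]
    exact Presheaf.isSheaf_of_iso_iff (⟨r, g, h2, h1⟩ : i.obj (a.obj (R.obj Z)) ≅ R.obj Z) |>.1
      (a.obj (R.obj Z)).property
  let R' : Sheaf K (Type u) ⥤ Sheaf J (Type u) := ObjectProperty.lift _ R hR
  haveI : Reflective i := ⟨a, adj⟩
  exact ⟨R', ⟨A.restrictFullyFaithful (Functor.FullyFaithful.ofFullyFaithful i)
    (Functor.FullyFaithful.id _)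
    ((Functor.associator i a f).symm ≪≫ Functor.isoWhiskerRight (asIso adj.counit) f ≪≫
      Functor.leftUnitor f ≪≫ (Functor.rightUnitor f).symm)
    (Functor.leftUnitor R ≪≫ (NatIso.ofComponents (fun Z => Iso.refl _) : R ≅ R' ⋙ i))⟩⟩

theorem isLeftAdjoint_and_preservesColimits_of_lex [PreservesFiniteLimits f]
    (hf : SGA4.PreservesEpiFamilies.{u + 1, u + 1, u} f) :
    f.IsLeftAdjoint ∧ PreservesColimitsOfSize.{u, u} f := by
  haveI := preservesColimits_of_isSheaf (isSheaf_comp_of_lex hf)
  exact ⟨isLeftAdjoint_of_preservesColimits, inferInstance⟩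

end Groth.Agent.TopCanon
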